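import Mathlib

open TensorProduct Matrix

universe u v w

namespace Groth.Agent.Disc25

section BaseChange

variable {A : Type u} {B : Type v} [CommRing A] [CommRing B] [Algebra A B]
  {ι : Type w} [Fintype ι] [DecidableEq ι]

theorem trace_one_tmul (K : Type*) [CommRing K] [Algebra A K] [Module.Free A B]
    [Module.Finite A B] (x : B) :
    Algebra.trace K (K ⊗[A] B) (1 ⊗ₜ x) = algebraMap A K (Algebra.trace A B x) := by
  rw [Algebra.trace_apply, Algebra.trace_apply, ← LinearMap.trace_baseChange]
  congr 1
  ext y
  simp

theorem discr_baseChange (K : Type*) [CommRing K] [Algebra A K] (b : Module.Basis ι A B) :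
    Algebra.discr K (b.baseChange K) = algebraMap A K (Algebra.discr A b) := by
  have : Module.Free A B := .of_basis b
  have : Module.Finite A B := .of_basis b
  rw [Algebra.discr_def, Algebra.discr_def, RingHom.map_det]
  congr 1
  ext i j
  simp [Algebra.traceMatrix, Algebra.traceForm_apply, trace_one_tmul]

end BaseChange

section Field

variable {k : Type u} [Field k] {B : Type v} [CommRing B] [Algebra k B]
  {ι : Type w} [Fintype ι] [DecidableEq ι]

theorem discr_ne_zero_iff (b : Module.Basis ι k B) :
    Algebra.discr k b ≠ 0 ↔ ∀ x : B, (∀ y, Algebra.trace k B (y * x) = 0) → x = 0 := by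
  constructor
  · intro h x hx
    have hv : Algebra.traceMatrix k b *ᵥ ⇑(b.repr x) = 0 := by
      ext i
      have := hx (b i)
      conv_lhs at this => rw [← b.sum_repr x, Finset.mul_sum, map_sum]
      simp only [Algebra.mul_smul_comm, map_smul, smul_eq_mul] at this
      simpa [Matrix.mulVec, dotProduct, Algebra.traceMatrix, Algebra.traceForm_apply, mul_comm]
        using this
    have h0 := Matrix.eq_zero_of_mulVec_eq_zero (by rwa [← Algebra.discr_def]) hv
    apply b.repr.injective
    rw [map_zero]
    exact DFunLike.coe_injective h0
  · intro h h0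
    rw [Algebra.discr_def, ← Matrix.exists_mulVec_eq_zero_iff] at h0
    obtain ⟨v, hv0, hv⟩ := h0
    apply hv0
    have hx : ∑ j, v j • b j = 0 := by
      refine h _ fun y => ?_
      rw [← b.sum_repr y, Finset.sum_mul, map_sum]
      refine Finset.sum_eq_zero fun i _ => ?_
      rw [Algebra.smul_mul_assoc, map_smul]
      have := congr_fun hv i
      simp only [Matrix.mulVec, dotProduct, Algebra.traceMatrix, Matrix.of_apply,
        Algebra.traceForm_apply, Pi.zero_apply] at this
      rw [Finset.mul_sum, map_sum]
      simp only [Algebra.mul_smul_comm, map_smul, smul_eq_mul]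
      simp_rw [mul_comm (v _)]
      rw [this, mul_zero]
    funext j
    exact Fintype.linearIndependent_iff.1 b.linearIndependent v hx j

theorem discr_ne_zero_of_isFiniteSplit [Algebra.IsFiniteSplit k B] (b : Module.Basis ι k B) :
    Algebra.discr k b ≠ 0 := by
  classical
  obtain ⟨n, ⟨e⟩⟩ := Algebra.IsFiniteSplit.nonempty_algEquiv_fun k B
  rw [discr_ne_zero_iff]
  intro x hx
  apply e.injective
  ext i
  have := hx (e.symm (Pi.single i 1))
  rw [← Algebra.trace_eq_of_algEquiv e] at this
  rw [map_mul, AlgEquiv.apply_symm_apply] at this
  rw [Algebra.trace_eq_matrix_trace (Pi.basisFun k (Fin n)), Matrix.trace] at this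
  simp [← map_mul, Algebra.leftMulMatrix_eq_repr_mul, Pi.single_apply, Pi.basisFun_repr] at this
  simp [this]

theorem isReduced_of_discr_ne_zero (b : Module.Basis ι k B) (h : Algebra.discr k b ≠ 0) :
    IsReduced B := by
  constructor
  intro x hx
  refine (discr_ne_zero_iff b).1 h x fun y => ?_
  rw [Algebra.trace_apply]
  have hn : IsNilpotent (Algebra.lmul k B (y * x)) :=
    ((Commute.all y x).isNilpotent_mul_left hx).map (Algebra.lmul k B)
  exact (LinearMap.isNilpotent_trace_of_isNilpotent hn).eq_zero

theorem formallyUnramified_of_isReduced_of_isAlgClosed [IsAlgClosed k] [Module.Finite k B]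
    [IsReduced B] : Algebra.FormallyUnramified k B := by
  have : IsArtinianRing B := IsArtinianRing.of_finite k B
  let e₀ := IsArtinianRing.equivPi B
  have hbij : ∀ m : MaximalSpectrum B, Function.Bijective (algebraMap k (B ⧸ m.asIdeal)) := by
    intro m
    let := Ideal.Quotient.field m.asIdeal
    exact IsAlgClosed.algebraMap_bijective_of_isIntegral
  let e : B ≃ₐ[k] (MaximalSpectrum B → k) :=
    ((AlgEquiv.ofRingEquiv (f := e₀) (fun r => rfl)).trans
      (AlgEquiv.piCongrRight fun m => (AlgEquiv.ofBijective (Algebra.ofId k _) (hbij m)).symm))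
  have : Algebra.IsFiniteSplit k B := .of_algEquiv e.symm
  infer_instance

theorem etale_iff_discr_ne_zero (b : Module.Basis ι k B) :
    Algebra.Etale k B ↔ Algebra.discr k b ≠ 0 := by
  have : Module.Finite k B := .of_basis b
  let K := AlgebraicClosure k
  have hd := discr_baseChange K b
  constructor
  · intro _
    have : Algebra.IsFiniteSplit K (K ⊗[k] B) := inferInstance
    have := discr_ne_zero_of_isFiniteSplit (b.baseChange K)
    rw [hd] at this
    exact fun h => this (by rw [h, map_zero])
  · intro h
    have h' : Algebra.discr K (b.baseChange K) ≠ 0 := by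
      rw [hd]; exact fun h' => h ((map_eq_zero_iff _ (algebraMap k K).injective).1 h')
    have := isReduced_of_discr_ne_zero (b.baseChange K) h'
    have := formallyUnramified_of_isReduced_of_isAlgClosed (k := K) (B := K ⊗[k] B)
    have : Algebra.FormallyUnramified k B :=
      .of_formallyUnramified_tensorProduct_of_faithfullyFlat K
    have : Algebra.FinitePresentation k B := Algebra.FinitePresentation.of_finiteType.1 inferInstance
    exact .of_formallyUnramified_of_flat

end Field

theorem etale_iff_isUnit_discr {A : Type u} {B : Type v} [CommRing A] [CommRing B]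
    [Algebra A B] {ι : Type w} [Fintype ι] [DecidableEq ι] (b : Module.Basis ι A B) :
    Algebra.Etale A B ↔ IsUnit (Algebra.discr A b) := by
  have : Module.Free A B := .of_basis b
  have : Module.Finite A B := .of_basis b
  constructor
  · intro _
    by_contra h
    obtain ⟨m, hm, hmem⟩ := exists_max_ideal_of_mem_nonunits h
    have h1 : Algebra.Etale m.ResidueField (m.ResidueField ⊗[A] B) := inferInstance
    have h2 := (etale_iff_discr_ne_zero (b.baseChange m.ResidueField)).1 h1
    rw [discr_baseChange] at h2
    exact h2 (Ideal.algebraMap_residueField_eq_zero.2 hmem)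
  · intro h
    have : Module.FinitePresentation A B := Module.finitePresentation_of_projective A B
    have : Algebra.FinitePresentation A B := .of_finitePresentation A B
    suffices Algebra.FormallyUnramified A B from .of_formallyUnramified_of_flat
    constructor
    have : Module.Finite A Ω[B⁄A] := Module.Finite.trans B _
    rw [← Module.support_eq_empty_iff (R := A), Set.eq_empty_iff_forall_notMem]
    intro p hp
    rw [Module.mem_support_iff_nontrivial_residueField_tensorProduct] at hp
    have h1 : Algebra.Etale p.asIdeal.ResidueField (p.asIdeal.ResidueField ⊗[A] B) := by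
      rw [etale_iff_discr_ne_zero (b.baseChange p.asIdeal.ResidueField), discr_baseChange]
      exact (h.map _).ne_zero
    let _ : Algebra B (p.asIdeal.ResidueField ⊗[A] B) := Algebra.TensorProduct.rightAlgebra
    have h2 : Subsingleton Ω[(p.asIdeal.ResidueField ⊗[A] B)⁄p.asIdeal.ResidueField] :=
      inferInstance
    exact not_subsingleton _
      (KaehlerDifferential.tensorKaehlerEquivBase A p.asIdeal.ResidueField B
        (p.asIdeal.ResidueField ⊗[A] B)).toEquiv.subsingleton

end Groth.Agent.Disc25
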