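import Groth.Agent.Lib.Disc25.EtaleDiscr
import Mathlib.RingTheory.Ideal.KrullsHeightTheorem
import Mathlib.RingTheory.Flat.Rank
import Mathlib.AlgebraicGeometry.Morphisms.Etale
import Mathlib.AlgebraicGeometry.Morphisms.Finite
import Mathlib.AlgebraicGeometry.Pullbacks
import Mathlib.AlgebraicGeometry.Noetherian

/-!
# The branch locus of a finite flat morphism has codimension at most one

`etale_of_flat_of_dim_two`: a finite flat algebra over a Noetherian ring which is etale over every
prime of height at most one is etale.
-/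

set_option autoImplicit false

universe u

open TensorProduct

namespace Groth.Agent.Disc25

/-- The branch locus of a finite free algebra over a local Noetherian ring of dimension `≥ 2`
is not the closed point alone. -/
theorem isUnit_discr_of_dim_two {R C : Type u} [CommRing R] [IsNoetherianRing R] [IsLocalRing R]
    [CommRing C] [Algebra R C] {ι : Type*} [Fintype ι] [DecidableEq ι] (b : Module.Basis ι R C)
    (hdim : (2 : WithBot ℕ∞) ≤ ringKrullDim R)
    (h : ∀ q : Ideal R, ∀ [q.IsPrime], q ≠ IsLocalRing.maximalIdeal R →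
      Algebra.Etale q.ResidueField (q.ResidueField ⊗[R] C)) :
    IsUnit (Algebra.discr R b) := by
  by_contra hd
  have hmem : Algebra.discr R b ∈ IsLocalRing.maximalIdeal R := hd
  have hmin : IsLocalRing.maximalIdeal R ∈ (Ideal.span {Algebra.discr R b}).minimalPrimes := by
    obtain ⟨q, hq, hqm⟩ := Ideal.exists_minimalPrimes_le
      ((Ideal.span_singleton_le_iff_mem _).2 hmem)
    by_cases hqe : q = IsLocalRing.maximalIdeal R
    · exact hqe ▸ hq
    · haveI : q.IsPrime := hq.1.1
      have h1 := (etale_iff_isUnit_discr (b.baseChange q.ResidueField)).1 (h q hqe)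
      rw [discr_baseChange] at h1
      exact (h1.ne_zero (Ideal.algebraMap_residueField_eq_zero.2
        ((Ideal.span_singleton_le_iff_mem _).1 hq.1.2))).elim
  have h1 : (IsLocalRing.maximalIdeal R).height ≤ 1 :=
    Ideal.height_le_one_of_isPrincipal_of_mem_minimalPrimes _ _ hmin
  rw [← IsLocalRing.maximalIdeal_height_eq_ringKrullDim] at hdim
  have h2 : (2 : ℕ∞) ≤ 1 := (WithBot.coe_le_coe.1 hdim).trans h1
  norm_num at h2

/-- Purity of the branch locus for finite flat algebras. -/
theorem etale_of_flat_of_dim_two (A B : Type u) [CommRing A] [IsNoetherianRing A] [CommRing B]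
    [Algebra A B] [Module.Finite A B] [Module.Flat A B]
    (h : ∀ (p : Ideal A), ∀ [p.IsPrime], Algebra.Etale p.ResidueField (p.ResidueField ⊗[A] B) ∨
      (2 : WithBot ℕ∞) ≤ ringKrullDim (Localization.AtPrime p)) :
    Algebra.Etale A B := by
  classical
  have key : ∀ (p : PrimeSpectrum A),
      Algebra.Etale p.asIdeal.ResidueField (p.asIdeal.ResidueField ⊗[A] B) := by
    intro p
    induction hh : p.asIdeal.height using WellFoundedLT.induction generalizing p with
    | _ n ih' =>
      have ih : ∀ r : PrimeSpectrum A, r < p →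
          Algebra.Etale r.asIdeal.ResidueField (r.asIdeal.ResidueField ⊗[A] B) := fun r hr =>
        ih' _ (hh ▸ Ideal.height_strict_mono_of_isPrime hr) r rfl
      rcases h p.asIdeal with h1 | hdim
      · exact h1
      haveI : Module.Finite (Localization.AtPrime p.asIdeal) (Localization.AtPrime p.asIdeal ⊗[A] B) :=
        inferInstance
      haveI : Module.Free (Localization.AtPrime p.asIdeal) (Localization.AtPrime p.asIdeal ⊗[A] B) :=
        Module.free_of_flat_of_isLocalRing
      let b := Module.Free.chooseBasis (Localization.AtPrime p.asIdeal)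
        (Localization.AtPrime p.asIdeal ⊗[A] B)
      have hR : Algebra.Etale (Localization.AtPrime p.asIdeal)
          (Localization.AtPrime p.asIdeal ⊗[A] B) := by
        rw [etale_iff_isUnit_discr b]
        refine isUnit_discr_of_dim_two b hdim fun q hq hne => ?_
        haveI : (q.under A).IsPrime := inferInstance
        have hlt : (⟨q.under A, ‹_›⟩ : PrimeSpectrum A) < p := by
          have hle : q.under A ≤ p.asIdeal := fun x hx => by
            by_contra hxp
            exact hq.ne_top (Ideal.eq_top_of_isUnit_mem _ hx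
              (IsLocalization.map_units (Localization.AtPrime p.asIdeal) (⟨x, hxp⟩ : p.asIdeal.primeCompl)))
          refine lt_of_le_of_ne hle fun he => hne ?_
          have h2 := congrArg (fun z : PrimeSpectrum A => z.asIdeal) he
          calc q = (q.under A).map (algebraMap A (Localization.AtPrime p.asIdeal)) :=
                (IsLocalization.map_under p.asIdeal.primeCompl _ q).symm
            _ = p.asIdeal.map (algebraMap A _) := by rw [show q.under A = p.asIdeal from h2]
            _ = _ := Localization.AtPrime.map_eq_maximalIdeal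
        have h2 : Algebra.Etale (q.under A).ResidueField ((q.under A).ResidueField ⊗[A] B) := ih _ hlt
        let f : (q.under A).ResidueField →ₐ[A] q.ResidueField :=
          Ideal.ResidueField.mapₐ (q.under A) q (Algebra.ofId _ _) rfl
        let : Algebra (q.under A).ResidueField q.ResidueField := f.toRingHom.toAlgebra
        haveI : IsScalarTower A (q.under A).ResidueField q.ResidueField :=
          IsScalarTower.of_algebraMap_eq fun a => (f.commutes a).symm
        have h3 : Algebra.Etale q.ResidueField
            (q.ResidueField ⊗[(q.under A).ResidueField] ((q.under A).ResidueField ⊗[A] B)) :=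
          inferInstance
        have h4 : Algebra.Etale q.ResidueField (q.ResidueField ⊗[A] B) := Algebra.Etale.of_equiv
          (Algebra.TensorProduct.cancelBaseChange A (q.under A).ResidueField q.ResidueField
            q.ResidueField B)
        exact Algebra.Etale.of_equiv (Algebra.TensorProduct.cancelBaseChange A
          (Localization.AtPrime p.asIdeal) q.ResidueField q.ResidueField B).symm
      have h3 : Algebra.Etale p.asIdeal.ResidueField (p.asIdeal.ResidueField
          ⊗[Localization.AtPrime p.asIdeal] (Localization.AtPrime p.asIdeal ⊗[A] B)) := inferInstance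
      exact Algebra.Etale.of_equiv (Algebra.TensorProduct.cancelBaseChange A
        (Localization.AtPrime p.asIdeal) p.asIdeal.ResidueField p.asIdeal.ResidueField B)
  have : Algebra.FinitePresentation A B := by
    haveI := Module.finitePresentation_of_finite A B
    exact .of_finitePresentation A B
  suffices Algebra.FormallyUnramified A B from .of_formallyUnramified_of_flat
  constructor
  have : Module.Finite A Ω[B⁄A] := Module.Finite.trans B _
  rw [← Module.support_eq_empty_iff (R := A), Set.eq_empty_iff_forall_notMem]
  intro p hp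
  rw [Module.mem_support_iff_nontrivial_residueField_tensorProduct] at hp
  have := key p
  let _ : Algebra B (p.asIdeal.ResidueField ⊗[A] B) := Algebra.TensorProduct.rightAlgebra
  have h2 : Subsingleton Ω[(p.asIdeal.ResidueField ⊗[A] B)⁄p.asIdeal.ResidueField] :=
    inferInstance
  exact not_subsingleton _
    (KaehlerDifferential.tensorKaehlerEquivBase A p.asIdeal.ResidueField B
      (p.asIdeal.ResidueField ⊗[A] B)).toEquiv.subsingleton

open AlgebraicGeometry CategoryTheory CategoryTheory.Limits

/-- Base change along a morphism through an open over which `π` is etale. -/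
theorem etale_pullback_snd_of_factors {X Y T : Scheme.{u}} (π : Y ⟶ X) (U : X.Opens)
    [Etale (pullback.snd π U.ι)] (g : T ⟶ X) (hg : ∀ t, g t ∈ U) : Etale (pullback.snd π g) := by
  let l : T ⟶ (U : Scheme.{u}) := IsOpenImmersion.lift U.ι g (by
    rintro _ ⟨t, rfl⟩; rw [Scheme.Opens.range_ι]; exact hg t)
  have hl : l ≫ U.ι = g := IsOpenImmersion.lift_fac _ _ _
  have hs : IsPullback (pullback.lift (pullback.fst π g) (pullback.snd π g ≫ l)
      (by rw [Category.assoc, hl, pullback.condition])) (pullback.snd π g) (pullback.snd π U.ι) l := by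
    refine IsPullback.of_right ?_ (pullback.lift_snd _ _ _) (IsPullback.of_hasPullback π U.ι)
    rw [pullback.lift_fst, hl]
    exact IsPullback.of_hasPullback π g
  exact MorphismProperty.of_isPullback hs inferInstance

/-- Purity of the branch locus over an affine base. -/
theorem etale_of_finite_flat_of_dim_two_spec {A : CommRingCat.{u}} [IsNoetherianRing A]
    {Y : Scheme.{u}} (π : Y ⟶ Spec A) [IsFinite π] [Flat π] (U : (Spec A).Opens)
    [Etale (pullback.snd π U.ι)]
    (h : ∀ x : Spec A, x ∉ U → (2 : WithBot ℕ∞) ≤ ringKrullDim ((Spec A).presheaf.stalk x)) :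
    Etale π := by
  haveI : IsAffine Y := isAffine_of_isAffineHom π
  obtain ⟨ψ, hψ⟩ : ∃ ψ : A ⟶ Γ(Y, ⊤), Spec.map ψ = Y.isoSpec.inv ≫ π := Spec.map_surjective _
  have e : π = Y.isoSpec.hom ≫ Spec.map ψ := by rw [hψ, Iso.hom_inv_id_assoc]
  have hfin : IsFinite (Spec.map ψ) := by rw [hψ]; infer_instance
  have hflat : Flat (Spec.map ψ) := by rw [hψ]; infer_instance
  rw [IsFinite.SpecMap_iff] at hfin
  rw [HasRingHomProperty.Spec_iff (P := @Flat)] at hflat
  suffices ψ.hom.Etale by
    haveI : Etale (Spec.map ψ) := (HasRingHomProperty.Spec_iff (P := @Etale)).2 this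
    rw [e]; infer_instance
  algebraize [ψ.hom]
  change Algebra.Etale A Γ(Y, ⊤)
  refine etale_of_flat_of_dim_two A Γ(Y, ⊤) fun p hp => ?_
  by_cases hx : (⟨p, hp⟩ : Spec A) ∈ U
  · left
    let g : Spec (CommRingCat.of p.ResidueField) ⟶ Spec A :=
      Spec.map (CommRingCat.ofHom (algebraMap A p.ResidueField))
    have hgU : ∀ t, g t ∈ U := by
      intro t
      have : g t = (⟨p, hp⟩ : Spec A) := by
        refine PrimeSpectrum.ext ?_
        change Ideal.comap (algebraMap A p.ResidueField) t.asIdeal = p
        have h0 : t.asIdeal = ⊥ := t.asIdeal.eq_bot_of_prime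
        rw [h0]
        exact Ideal.ker_algebraMap_residueField p
      rw [this]; exact hx
    haveI h1 : Etale (pullback.snd π g) := etale_pullback_snd_of_factors π U g hgU
    haveI h2 : Etale (pullback.snd (Spec.map (CommRingCat.ofHom (algebraMap A Γ(Y, ⊤)))) g) := by
      have : IsPullback (pullback.fst π g ≫ Y.isoSpec.hom) (pullback.snd π g)
          (Spec.map (CommRingCat.ofHom (algebraMap A Γ(Y, ⊤)))) g := by
        refine (IsPullback.of_hasPullback π g).of_iso (Iso.refl _) Y.isoSpec (Iso.refl _) (Iso.refl _)
          (by simp) (by simp) ?_ (by simp)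
        simp only [Iso.refl_hom, Category.comp_id]
        exact e
      rw [← this.isoPullback_inv_snd]
      infer_instance
    have h3 : Etale (Spec.map (CommRingCat.ofHom
        ((Algebra.TensorProduct.includeRight : p.ResidueField →ₐ[A] Γ(Y, ⊤) ⊗[A] p.ResidueField) :
          p.ResidueField →+* Γ(Y, ⊤) ⊗[A] p.ResidueField))) := by
      rw [← pullbackSpecIso_inv_snd]
      infer_instance
    rw [HasRingHomProperty.Spec_iff (P := @Etale)] at h3
    let _ : Algebra p.ResidueField (Γ(Y, ⊤) ⊗[A] p.ResidueField) := Algebra.TensorProduct.rightAlgebra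
    have h4 : Algebra.Etale p.ResidueField (Γ(Y, ⊤) ⊗[A] p.ResidueField) := h3
    exact Algebra.Etale.of_equiv (AlgEquiv.ofRingEquiv
      (f := (Algebra.TensorProduct.comm A Γ(Y, ⊤) p.ResidueField).toRingEquiv) (fun r => by
        change (Algebra.TensorProduct.comm A Γ(Y, ⊤) p.ResidueField) (1 ⊗ₜ r) = r ⊗ₜ 1
        simp))
  · right
    refine (h _ hx).trans (le_of_eq ?_)
    exact ringKrullDim_eq_of_ringEquiv
      (StructureSheaf.stalkIso A ⟨p, hp⟩).toRingEquiv.symm

/-- Purity of the branch locus for finite flat morphisms. -/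
theorem etale_of_finite_flat_of_dim_two {X Y : Scheme.{u}} [IsLocallyNoetherian X] (π : Y ⟶ X)
    [IsFinite π] [Flat π] (U : X.Opens) [Etale (pullback.snd π U.ι)]
    (h : ∀ x : X, x ∉ U → (2 : WithBot ℕ∞) ≤ ringKrullDim (X.presheaf.stalk x)) : Etale π := by
  rw [IsZariskiLocalAtTarget.iff_of_iSup_eq_top (P := @Etale) _ (iSup_affineOpens_eq_top X)]
  intro V
  haveI : IsNoetherianRing Γ(X, V.1) := IsLocallyNoetherian.component_noetherian V
  have hsnd : Etale (pullback.snd π V.2.fromSpec) := by
    haveI : Etale (pullback.snd (pullback.snd π V.2.fromSpec) (V.2.fromSpec ⁻¹ᵁ U).ι) := by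
      haveI : Etale (pullback.snd π ((V.2.fromSpec ⁻¹ᵁ U).ι ≫ V.2.fromSpec)) :=
        etale_pullback_snd_of_factors π U _ (fun t => t.2)
      have := ((IsPullback.of_hasPullback (pullback.snd π V.2.fromSpec)
        (V.2.fromSpec ⁻¹ᵁ U).ι).paste_horiz (IsPullback.of_hasPullback π V.2.fromSpec))
      rw [← this.isoPullback_hom_snd]
      infer_instance
    refine etale_of_finite_flat_of_dim_two_spec (pullback.snd π V.2.fromSpec) (V.2.fromSpec ⁻¹ᵁ U)
      fun x hx => ?_
    refine (h (V.2.fromSpec x) hx).trans (le_of_eq ?_)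
    exact ringKrullDim_eq_of_ringEquiv
      (asIso (V.2.fromSpec.stalkMap x)).commRingCatIsoToRingEquiv
  refine MorphismProperty.of_isPullback (P := @Etale) (?_ : IsPullback
    (pullback.lift ((π ⁻¹ᵁ V.1).ι) (π ∣_ V.1 ≫ V.2.isoSpec.hom) ?_) (π ∣_ V.1)
      (pullback.snd π V.2.fromSpec) V.2.isoSpec.hom) hsnd
  · have hι : V.2.isoSpec.hom ≫ V.2.fromSpec = V.1.ι := V.2.isoSpec.hom_inv_id_assoc _
    rw [Category.assoc, hι]
    exact (isPullback_morphismRestrict π V.1).w.symm
  · refine IsPullback.of_right ?_ (pullback.lift_snd _ _ _) (IsPullback.of_hasPullback π V.2.fromSpec)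
    rw [pullback.lift_fst]
    have : V.2.isoSpec.hom ≫ V.2.fromSpec = V.1.ι := V.2.isoSpec.hom_inv_id_assoc _
    rw [this]
    exact (isPullback_morphismRestrict π V.1).flip

end Groth.Agent.Disc25
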