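import Groth.Agent.Lib.Disc25.EtaleDiscr

open TensorProduct

universe u

namespace Groth.Agent.Disc25

/-- A finite projective algebra with reduced geometric fibres is étale. -/
theorem etale_of_isReduced_geometricFibres {A B : Type u} [CommRing A] [CommRing B] [Algebra A B]
    [Module.Finite A B] [Module.Projective A B]
    (h : ∀ (K : Type u) [Field K] [IsAlgClosed K] [Algebra A K], IsReduced (K ⊗[A] B)) :
    Algebra.Etale A B := by
  have : Module.FinitePresentation A B := Module.finitePresentation_of_projective A B
  have : Algebra.FinitePresentation A B := .of_finitePresentation A B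
  suffices Algebra.FormallyUnramified A B from .of_formallyUnramified_of_flat
  constructor
  have : Module.Finite A Ω[B⁄A] := Module.Finite.trans B _
  rw [← Module.support_eq_empty_iff (R := A), Set.eq_empty_iff_forall_notMem]
  intro p hp
  rw [Module.mem_support_iff_nontrivial_residueField_tensorProduct] at hp
  let k := p.asIdeal.ResidueField
  let K := AlgebraicClosure k
  have h1 : IsReduced (K ⊗[A] B) := h K
  let e : K ⊗[k] (k ⊗[A] B) ≃ₐ[K] K ⊗[A] B := Algebra.TensorProduct.cancelBaseChange A k K K B
  have : IsReduced (K ⊗[k] (k ⊗[A] B)) := isReduced_of_injective e e.injective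
  have := formallyUnramified_of_isReduced_of_isAlgClosed (k := K) (B := K ⊗[k] (k ⊗[A] B))
  have h2 : Algebra.FormallyUnramified k (k ⊗[A] B) :=
    .of_formallyUnramified_tensorProduct_of_faithfullyFlat K
  let _ : Algebra B (k ⊗[A] B) := Algebra.TensorProduct.rightAlgebra
  have h3 : Subsingleton Ω[(k ⊗[A] B)⁄k] := inferInstance
  exact not_subsingleton _
    (KaehlerDifferential.tensorKaehlerEquivBase A k B (k ⊗[A] B)).toEquiv.subsingleton

end Groth.Agent.Disc25
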