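import Mathlib

open TensorProduct

universe u

namespace Groth.Agent.Disc25

variable (A B : Type u) [CommRing A] [CommRing B] [Algebra A B]

/-- A localization of `B` in which all nonzerodivisors of `A` are inverted is flat over `A`
as soon as `Q(A) ⊗ B` is flat over `Q(A)`. -/
theorem flat_atPrime_of_flat_fractionRing
    (h2 : Module.Flat (FractionRing A) (FractionRing A ⊗[A] B))
    (q : Ideal B) [q.IsPrime]
    (hd : ∀ a ∈ nonZeroDivisors A, algebraMap A B a ∉ q) :
    Module.Flat A (Localization.AtPrime q) := by
  letI : Algebra B (FractionRing A ⊗[A] B) := Algebra.TensorProduct.rightAlgebra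
  haveI hl : IsLocalization (Algebra.algebraMapSubmonoid B (nonZeroDivisors A))
      (FractionRing A ⊗[A] B) := IsLocalization.tensorRight (FractionRing A) (nonZeroDivisors A)
  let M := Algebra.algebraMapSubmonoid B (nonZeroDivisors A)
  have hM : M ≤ q.primeCompl := by
    rintro _ ⟨a, ha, rfl⟩; exact hd a ha
  letI : Algebra (FractionRing A ⊗[A] B) (Localization.AtPrime q) :=
    IsLocalization.localizationAlgebraOfSubmonoidLe _ _ M q.primeCompl hM
  haveI : IsScalarTower B (FractionRing A ⊗[A] B) (Localization.AtPrime q) :=
    IsLocalization.localization_isScalarTower_of_submonoid_le _ _ M q.primeCompl hM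
  haveI : IsLocalization (q.primeCompl.map (algebraMap B (FractionRing A ⊗[A] B)))
      (Localization.AtPrime q) :=
    IsLocalization.isLocalization_of_submonoid_le _ _ M q.primeCompl hM
  haveI : IsScalarTower A B (FractionRing A ⊗[A] B) :=
    IsScalarTower.of_algebraMap_eq' (by
      ext a
      simp [Algebra.TensorProduct.right_algebraMap_apply, Algebra.algebraMap_eq_smul_one,
        TensorProduct.smul_tmul'])
  haveI : IsScalarTower A (FractionRing A ⊗[A] B) (Localization.AtPrime q) :=
    IsScalarTower.to₁₃₄ A B _ _
  have h3 : Module.Flat (FractionRing A ⊗[A] B) (Localization.AtPrime q) :=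
    IsLocalization.flat _ (q.primeCompl.map (algebraMap B (FractionRing A ⊗[A] B)))
  have h4 : Module.Flat A (FractionRing A) := IsLocalization.flat _ (nonZeroDivisors A)
  have h5 : Module.Flat A (FractionRing A ⊗[A] B) := Module.Flat.trans A (FractionRing A) _
  exact Module.Flat.trans A (FractionRing A ⊗[A] B) _

end Groth.Agent.Disc25
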