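import Groth.Agent.Lib.Disc25.EtaleDiscr

/-!
# Finite étale algebras over normal domains are normal
-/

open TensorProduct

universe u

namespace Groth.Agent.Disc25

variable {A B : Type u} [CommRing A] [IsDomain A] [IsIntegrallyClosed A] [CommRing B] [Algebra A B]
  {ι : Type u} [Fintype ι] [DecidableEq ι]

omit [IsDomain A] [IsIntegrallyClosed A] in
theorem trace_pi {k : Type*} [CommRing k] (n : ℕ) (f : Fin n → k) :
    Algebra.trace k (Fin n → k) f = ∑ i, f i := by
  rw [Algebra.trace_eq_matrix_trace (Pi.basisFun k (Fin n)), Matrix.trace]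
  simp [Algebra.leftMulMatrix_eq_repr_mul, Pi.single_apply, Pi.basisFun_repr]

/-- The trace of an integral element of the generic fibre lies in the base. -/
theorem exists_trace_eq [Algebra.Etale A B] (b : Module.Basis ι A B)
    (x : FractionRing A ⊗[A] B) (hx : IsIntegral A x) :
    ∃ a : A, algebraMap A (FractionRing A) a = Algebra.trace (FractionRing A) _ x := by
  let L := AlgebraicClosure (FractionRing A)
  have : Module.Free A B := .of_basis b
  have : Module.Finite A B := .of_basis b
  obtain ⟨n, ⟨e⟩⟩ := Algebra.IsFiniteSplit.nonempty_algEquiv_fun L (L ⊗[A] B)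
  let μ : FractionRing A ⊗[A] B →ₐ[A] L ⊗[A] B :=
    Algebra.TensorProduct.map (IsScalarTower.toAlgHom A (FractionRing A) L) (AlgHom.id A B)
  have hμ : ∀ z, algebraMap (FractionRing A) L (Algebra.trace (FractionRing A) _ z) =
      Algebra.trace L (L ⊗[A] B) (μ z) := by
    intro z
    induction z using TensorProduct.induction_on with
    | zero => simp
    | tmul k y =>
      have h1 : k ⊗ₜ[A] y = k • ((1 : FractionRing A) ⊗ₜ[A] y) := by
        rw [TensorProduct.smul_tmul', smul_eq_mul, mul_one]
      have h2 : μ (k ⊗ₜ[A] y) = algebraMap (FractionRing A) L k • ((1 : L) ⊗ₜ[A] y) := by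
        rw [TensorProduct.smul_tmul', smul_eq_mul, mul_one]
        rfl
      rw [h2, map_smul, trace_one_tmul, h1, map_smul, trace_one_tmul, smul_eq_mul, map_mul,
        ← IsScalarTower.algebraMap_apply, smul_eq_mul]
    | add x y hx hy => simp only [map_add, hx, hy]
  refine IsIntegrallyClosed.isIntegral_iff.1 ?_
  rw [← isIntegral_algebraMap_iff (algebraMap (FractionRing A) L).injective, hμ,
    ← Algebra.trace_eq_of_algEquiv e, trace_pi]
  refine IsIntegral.sum _ fun i _ => ?_
  exact hx.map (((Pi.evalAlgHom L (fun _ => L) i).comp e.toAlgHom).restrictScalars A |>.comp μ)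

/-- Integral elements of the generic fibre lie in the algebra. -/
theorem exists_eq_one_tmul [Algebra.Etale A B] (b : Module.Basis ι A B)
    (x : FractionRing A ⊗[A] B) (hx : IsIntegral A x) : ∃ y : B, 1 ⊗ₜ y = x := by
  let K := FractionRing A
  let bK := b.baseChange K
  have hb : ∀ i, IsIntegral A (bK i) := fun i => by
    have : Module.Finite A B := .of_basis b
    rw [show bK i = 1 ⊗ₜ b i from Module.Basis.baseChange_apply ..]
    exact (Algebra.IsIntegral.isIntegral (R := A) (b i)).map
      (Algebra.TensorProduct.includeRight : B →ₐ[A] K ⊗[A] B)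
  choose t ht using fun i => exists_trace_eq b (bK i * x) ((hb i).mul hx)
  have hd := (etale_iff_isUnit_discr b).1 inferInstance
  rw [Algebra.discr_def] at hd
  let c : ι → A := (Algebra.traceMatrix A b)⁻¹.mulVec t
  have hc : (Algebra.traceMatrix A b).mulVec c = t := by
    simp [c, Matrix.mulVec_mulVec, Matrix.mul_nonsing_inv _ hd]
  refine ⟨∑ j, c j • b j, ?_⟩
  -- compare traces against the basis
  have hdK : Algebra.discr K bK ≠ 0 := by
    rw [show Algebra.discr K bK = algebraMap A K (Algebra.discr A b) from discr_baseChange K b,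
      Algebra.discr_def]
    exact (hd.map _).ne_zero
  rw [← sub_eq_zero]
  refine (discr_ne_zero_iff bK).1 hdK _ fun z => ?_
  have hlin : ∀ i, Algebra.trace K (K ⊗[A] B) (bK i * ((1 ⊗ₜ ∑ j, c j • b j) - x)) = 0 := by
    intro i
    have : Module.Free A B := .of_basis b
    have : Module.Finite A B := .of_basis b
    rw [mul_sub, map_sub, sub_eq_zero, ← ht,
      show bK i = 1 ⊗ₜ b i from Module.Basis.baseChange_apply ..,
      Algebra.TensorProduct.tmul_mul_tmul, one_mul, trace_one_tmul, ← congrFun hc i]
    congr 1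
    simp [Matrix.mulVec, dotProduct, Algebra.traceMatrix, Algebra.traceForm_apply, Finset.mul_sum,
      mul_comm]
  rw [← bK.sum_repr z, Finset.sum_mul, map_sum]
  refine Finset.sum_eq_zero fun i _ => ?_
  rw [smul_mul_assoc, map_smul, hlin, smul_zero]

/-- Local rings of a free finite étale algebra over a normal domain are normal domains. -/
theorem isNormal_localization_of_basis [Algebra.Etale A B] (b : Module.Basis ι A B)
    (q : Ideal B) [q.IsPrime] :
    IsDomain (Localization.AtPrime q) ∧ IsIntegrallyClosed (Localization.AtPrime q) := by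
  classical
  let K := FractionRing A
  let R := K ⊗[A] B
  have : Module.Free A B := .of_basis b
  have : Module.Finite A B := .of_basis b
  have : IsArtinianRing R := IsArtinianRing.of_finite K R
  have : IsReduced R := isReduced_of_discr_ne_zero (b.baseChange K) (by
    rw [discr_baseChange]
    exact (((etale_iff_isUnit_discr b).1 inferInstance).map _).ne_zero)
  let E : R ≃+* ∀ I : MaximalSpectrum R, R ⧸ I.asIdeal := (IsArtinianRing.equivPi R).toRingEquiv
  let j : B →ₐ[A] R := Algebra.TensorProduct.includeRight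
  have hj : Function.Injective j :=
    Algebra.TensorProduct.includeRight_injective (IsFractionRing.injective A K)
  -- the idempotents of `R` come from `B`
  let ε : MaximalSpectrum R → R := fun m => E.symm (Pi.single m 1)
  choose e he using fun m => exists_eq_one_tmul b (ε m) (by
    refine ⟨Polynomial.X ^ 2 - Polynomial.X,
      Polynomial.monic_X_pow_sub (by rw [Polynomial.degree_X]; norm_num), ?_⟩
    have hsq : (Pi.single m 1 * Pi.single m 1 : ∀ i : MaximalSpectrum R, R ⧸ i.asIdeal) =
        Pi.single m 1 := by funext i; rcases eq_or_ne i m with rfl | h <;> simp [*]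
    simp only [Polynomial.eval₂_sub, Polynomial.eval₂_mul, Polynomial.eval₂_X, ε, sq,
      ← map_mul, hsq]
    exact sub_self _)
  have : Finite (MaximalSpectrum R) := inferInstance
  cases nonempty_fintype (MaximalSpectrum R)
  have hsum : ∑ m, e m = 1 := by
    apply hj
    rw [map_sum, map_one]
    show ∑ m, (1 : K) ⊗ₜ[A] e m = 1
    simp_rw [he, ε, ← map_sum]
    rw [← map_one E.symm]
    congr 1
    exact Finset.univ_sum_single (1 : ∀ m : MaximalSpectrum R, R ⧸ m.asIdeal)
  obtain ⟨m, hm⟩ : ∃ m, e m ∉ q := by
    by_contra hh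
    push_neg at hh
    exact (Ideal.ne_top_iff_one q).1 (Ideal.IsPrime.ne_top') (hsum ▸ Ideal.sum_mem q fun m _ => hh m)
  let L := R ⧸ m.asIdeal
  let : Field L := Ideal.Quotient.field m.asIdeal
  let φ : B →ₐ[A] L := (Ideal.Quotient.mkₐ A m.asIdeal).comp j
  let P : Ideal B := RingHom.ker φ.toRingHom
  have : P.IsPrime := RingHom.ker_isPrime _
  have hEapp : ∀ (z : R) (i : MaximalSpectrum R), E z i = Ideal.Quotient.mk i.asIdeal z :=
    fun z i => rfl
  have hkill : ∀ x ∈ P, e m * x = 0 := by
    intro x hx
    apply hj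
    rw [map_mul, map_zero]
    show ((1 : K) ⊗ₜ[A] e m) * _ = 0
    rw [he]
    apply E.injective
    funext i
    simp only [map_mul, map_zero, Pi.mul_apply, Pi.zero_apply, ε, RingEquiv.apply_symm_apply]
    rcases eq_or_ne i m with rfl | hne
    · rw [Pi.single_eq_same, one_mul, hEapp]
      exact hx
    · rw [Pi.single_eq_of_ne hne, zero_mul]
  -- `B ⧸ P` is a normal domain with fraction field `L`
  let ψ : B ⧸ P →ₐ[A] L := Ideal.Quotient.liftₐ P φ fun x hx => hx
  have hψ : Function.Injective ψ := RingHom.lift_injective_of_ker_le_ideal P _ le_rfl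
  let : Algebra (B ⧸ P) L := ψ.toRingHom.toAlgebra
  have : IsScalarTower A (B ⧸ P) L := IsScalarTower.of_algebraMap_eq fun a => (ψ.commutes a).symm
  have : FaithfulSMul (B ⧸ P) L := (faithfulSMul_iff_algebraMap_injective _ _).2 hψ
  have : IsFractionRing (B ⧸ P) L := by
    refine IsFractionRing.of_field _ _ fun z => ?_
    obtain ⟨r, rfl⟩ := Ideal.Quotient.mk_surjective z
    obtain ⟨⟨a, s⟩, hs⟩ : ∃ p : B × nonZeroDivisors A,
        r * algebraMap A R (p.2 : A) = j p.1 := by
      induction r using TensorProduct.induction_on with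
      | zero => exact ⟨(0, 1), by simp⟩
      | tmul k y =>
        obtain ⟨⟨c, s⟩, hcs⟩ := IsLocalization.surj (nonZeroDivisors A) k
        refine ⟨(c • y, s), ?_⟩
        show (k ⊗ₜ[A] y) * (algebraMap A K s ⊗ₜ[A] (1 : B)) = (1 : K) ⊗ₜ[A] (c • y)
        rw [Algebra.TensorProduct.tmul_mul_tmul, mul_one, hcs, TensorProduct.tmul_smul,
          TensorProduct.smul_tmul', Algebra.algebraMap_eq_smul_one]
      | add x y hx hy =>
        obtain ⟨⟨a, s⟩, ha⟩ := hx
        obtain ⟨⟨a', s'⟩, ha'⟩ := hy
        refine ⟨(algebraMap A B s' * a + algebraMap A B s * a', s * s'), ?_⟩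
        dsimp only at ha ha' ⊢
        rw [map_add, map_mul, map_mul, AlgHom.commutes, AlgHom.commutes, ← ha, ← ha',
          Submonoid.coe_mul, map_mul]
        ring
    have hs0 : algebraMap A L (s : A) ≠ 0 := by
      rw [IsScalarTower.algebraMap_apply A K L]
      exact (map_ne_zero _).2 (IsFractionRing.to_map_ne_zero_of_mem_nonZeroDivisors s.2)
    refine ⟨Ideal.Quotient.mk P a, algebraMap A (B ⧸ P) s, ?_⟩
    rw [← IsScalarTower.algebraMap_apply A (B ⧸ P) L, eq_div_iff hs0]
    exact congrArg (Ideal.Quotient.mk m.asIdeal) hs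
  have : IsIntegrallyClosed (B ⧸ P) := by
    rw [isIntegrallyClosed_iff L]
    intro z hz
    have hzA : IsIntegral A z := isIntegral_trans z hz
    obtain ⟨p, hp, hpz⟩ := hzA
    obtain ⟨y, hy⟩ := exists_eq_one_tmul b (E.symm (Pi.single m z)) (by
      refine ⟨Polynomial.X * p, Polynomial.monic_X.mul hp, ?_⟩
      apply E.injective
      rw [map_zero]
      funext i
      rw [hEapp, Polynomial.eval₂_mul, Polynomial.eval₂_X, map_mul, Polynomial.hom_eval₂, ← hEapp,
        RingEquiv.apply_symm_apply, Pi.zero_apply]
      rcases eq_or_ne i m with rfl | hne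
      · rw [Pi.single_eq_same]
        exact mul_eq_zero_of_right _ hpz
      · rw [Pi.single_eq_of_ne hne, zero_mul])
    refine ⟨Ideal.Quotient.mk P y, ?_⟩
    show Ideal.Quotient.mk m.asIdeal ((1 : K) ⊗ₜ[A] y) = z
    rw [hy, ← hEapp, RingEquiv.apply_symm_apply, Pi.single_eq_same]
  -- pass to the local ring
  have hPq : P ≤ q := fun x hx => (‹q.IsPrime›.mem_or_mem (by rw [hkill x hx]; exact q.zero_mem)).resolve_left hm
  let q' : Ideal (B ⧸ P) := q.map (Ideal.Quotient.mk P)
  have hq'c : q'.comap (Ideal.Quotient.mk P) = q := by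
    rw [Ideal.comap_map_of_surjective _ Ideal.Quotient.mk_surjective, ← RingHom.ker_eq_comap_bot,
      Ideal.mk_ker, sup_eq_left.2 hPq]
  have : q'.IsPrime := Ideal.map_isPrime_of_surjective Ideal.Quotient.mk_surjective
    (by rw [Ideal.mk_ker]; exact hPq)
  let l : Localization.AtPrime q →+* Localization.AtPrime q' :=
    Localization.localRingHom q q' (Ideal.Quotient.mk P) hq'c.symm
  have hlsurj : Function.Surjective l := by
    intro z
    obtain ⟨x, s, rfl⟩ := IsLocalization.exists_mk'_eq q'.primeCompl z
    obtain ⟨x, rfl⟩ := Ideal.Quotient.mk_surjective x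
    obtain ⟨t, ht⟩ := Ideal.Quotient.mk_surjective (s : B ⧸ P)
    have htq : t ∈ q.primeCompl := fun hh =>
      s.2 (by rw [← ht]; exact Ideal.mem_map_of_mem _ hh)
    refine ⟨IsLocalization.mk' _ x ⟨t, htq⟩, ?_⟩
    rw [Localization.localRingHom_mk']
    congr 1
    exact Subtype.ext ht
  have hlinj : Function.Injective l := by
    rw [injective_iff_map_eq_zero]
    intro z hz
    obtain ⟨x, s, rfl⟩ := IsLocalization.exists_mk'_eq q.primeCompl z
    rw [Localization.localRingHom_mk', IsLocalization.mk'_eq_zero_iff] at hz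
    obtain ⟨⟨t, ht⟩, htx⟩ := hz
    obtain ⟨t, rfl⟩ := Ideal.Quotient.mk_surjective t
    have htq : t ∉ q := fun hh => ht (Ideal.mem_map_of_mem _ hh)
    rw [← map_mul, Ideal.Quotient.eq_zero_iff_mem] at htx
    rw [IsLocalization.mk'_eq_zero_iff]
    exact ⟨⟨e m * t, q.primeCompl.mul_mem hm htq⟩, by rw [mul_assoc]; exact hkill _ htx⟩
  let el := RingEquiv.ofBijective l ⟨hlinj, hlsurj⟩
  have : IsIntegrallyClosed (Localization.AtPrime q') :=
    isIntegrallyClosed_of_isLocalization _ q'.primeCompl q'.primeCompl_le_nonZeroDivisors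
  exact ⟨el.toMulEquiv.isDomain, IsIntegrallyClosed.of_equiv el.symm⟩

/-- Local rings of a finite étale algebra over a ring are normal domains above normal points. -/
theorem isNormal_localization {A B : Type u} [CommRing A] [CommRing B] [Algebra A B]
    [Module.Finite A B] [Algebra.Etale A B] (q : Ideal B) [q.IsPrime]
    [IsDomain (Localization.AtPrime (q.under A))]
    [IsIntegrallyClosed (Localization.AtPrime (q.under A))] :
    IsDomain (Localization.AtPrime q) ∧ IsIntegrallyClosed (Localization.AtPrime q) := by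
  classical
  let p := q.under A
  let Ap := Localization.AtPrime p
  let B' := Ap ⊗[A] B
  letI : Algebra B B' := Algebra.TensorProduct.rightAlgebra
  haveI hloc : IsLocalization (Algebra.algebraMapSubmonoid B p.primeCompl) B' :=
    IsLocalization.tensorRight Ap p.primeCompl
  have hdisj : Disjoint (↑(Algebra.algebraMapSubmonoid B p.primeCompl) : Set B) (q : Set B) := by
    rw [Set.disjoint_left]
    rintro _ ⟨a, ha, rfl⟩ h
    exact ha h
  let q' : Ideal B' := q.map (algebraMap B B')
  have : q'.IsPrime := IsLocalization.isPrime_of_isPrime_disjoint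
    (Algebra.algebraMapSubmonoid B p.primeCompl) B' q ‹_› hdisj
  have hc : q'.comap (algebraMap B B') = q :=
    IsLocalization.under_map_of_isPrime_disjoint (Algebra.algebraMapSubmonoid B p.primeCompl) B'
      ‹_› hdisj
  have : Module.Free Ap B' := Module.free_of_flat_of_isLocalRing
  let b := Module.Free.chooseBasis Ap B'
  obtain ⟨h1, h2⟩ := isNormal_localization_of_basis b q'
  have h3 := IsLocalization.isLocalization_isLocalization_atPrime_isLocalization
    (Algebra.algebraMapSubmonoid B p.primeCompl) (Localization.AtPrime q') q'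
  have h3' : IsLocalization.AtPrime (Localization.AtPrime q') q := by
    convert h3 using 1
    exact hc.symm
  let e : Localization.AtPrime q ≃+* Localization.AtPrime q' :=
    (IsLocalization.algEquiv q.primeCompl _ _).toRingEquiv
  haveI := h1
  haveI := h2
  exact ⟨e.toMulEquiv.isDomain, @IsIntegrallyClosed.of_equiv (Localization.AtPrime q') (Localization.AtPrime q)
    _ _ e.symm h2⟩

end Groth.Agent.Disc25
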