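import Mathlib.AlgebraicGeometry.Morphisms.UniversallyOpen
import Mathlib.AlgebraicGeometry.Morphisms.Etale
import Mathlib.AlgebraicGeometry.Morphisms.QuasiFinite
import Groth.Agent.Lib.Disc25.Normal
import Groth.Prelude.Def_Pi1

/-!
# Finite étale covers of normal schemes: normality and maximal generalizations
-/

universe u

open CategoryTheory CategoryTheory.Limits AlgebraicGeometry TopologicalSpace

noncomputable section

namespace Groth.Agent.Disc25

variable {X Z : Scheme.{u}}

/-- A finite étale scheme over a normal scheme is normal. -/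
theorem isNormalScheme_of_finite_etale (g : Z ⟶ X) [IsFinite g] [Etale g]
    (hX : Pi1.IsNormalScheme X) : Pi1.IsNormalScheme Z := by
  intro z
  obtain ⟨U, hU, hzU, -⟩ :=
    exists_isAffineOpen_mem_and_subset (x := g z) (U := ⊤) (Opens.mem_top _)
  let V := g ⁻¹ᵁ U
  have hV : IsAffineOpen V := hU.preimage g
  let f := g.appLE U V le_rfl
  have hfin : f.hom.Finite := by
    have := IsFinite.finite_app g U hU
    rwa [Scheme.Hom.app_eq_appLE] at this
  have het : f.hom.Etale := HasRingHomProperty.appLE @Etale g ‹_› ⟨U, hU⟩ ⟨V, hV⟩ le_rfl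
  algebraize [f.hom]
  let q := (hV.primeIdealOf ⟨z, hzU⟩).asIdeal
  have hq : q.under Γ(X, U) = (hU.primeIdealOf ⟨g z, hzU⟩).asIdeal :=
    congrArg PrimeSpectrum.asIdeal
      (IsAffineOpen.comap_primeIdealOf_appLE (f := g) U hU V hV le_rfl hzU)
  let := TopCat.Presheaf.algebra_section_stalk X.presheaf (⟨g z, hzU⟩ : U)
  have hlocX : IsLocalization.AtPrime (X.presheaf.stalk (g z)) (q.under Γ(X, U)) := by
    have h := hU.isLocalization_stalk ⟨g z, hzU⟩
    unfold IsLocalization.AtPrime at h ⊢
    convert h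
  let eX : X.presheaf.stalk (g z) ≃+* Localization.AtPrime (q.under Γ(X, U)) :=
    (IsLocalization.algEquiv (q.under Γ(X, U)).primeCompl _ _).toRingEquiv
  obtain ⟨hd, hn⟩ := hX (g z)
  have : IsDomain (Localization.AtPrime (q.under Γ(X, U))) := eX.symm.toMulEquiv.isDomain
  have : IsIntegrallyClosed (Localization.AtPrime (q.under Γ(X, U))) :=
    IsIntegrallyClosed.of_equiv eX
  obtain ⟨h1, h2⟩ := isNormal_localization (A := Γ(X, U)) q
  let := TopCat.Presheaf.algebra_section_stalk Z.presheaf (⟨z, hzU⟩ : V)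
  have hlocZ : IsLocalization.AtPrime (Z.presheaf.stalk z) q := hV.isLocalization_stalk ⟨z, hzU⟩
  let eZ : Z.presheaf.stalk z ≃+* Localization.AtPrime q :=
    (IsLocalization.algEquiv q.primeCompl _ _).toRingEquiv
  exact ⟨eZ.toMulEquiv.isDomain, IsIntegrallyClosed.of_equiv eZ.symm⟩

variable (hZ : ∀ z : Z, IsDomain (Z.presheaf.stalk z))

/-- The maximal generalization of a point whose local ring is a domain. -/
def gen (z : Z) : Z :=
  haveI := hZ z
  Z.fromSpecStalk z (⟨⊥, Ideal.isPrime_bot⟩ : PrimeSpectrum (Z.presheaf.stalk z))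

theorem gen_specializes (z : Z) : gen hZ z ⤳ z := by
  have h : gen hZ z ∈ Set.range (Z.fromSpecStalk z) := ⟨_, rfl⟩
  rwa [Scheme.range_fromSpecStalk] at h

theorem gen_specializes_of_specializes {y z : Z} (h : y ⤳ z) : gen hZ z ⤳ y := by
  have h' : y ∈ Set.range (Z.fromSpecStalk z) := by rw [Scheme.range_fromSpecStalk]; exact h
  obtain ⟨p, rfl⟩ := h'
  haveI := hZ z
  refine Specializes.map ?_ (Z.fromSpecStalk z).continuous
  exact (PrimeSpectrum.le_iff_specializes ⟨⊥, Ideal.isPrime_bot⟩ p).1 bot_le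

theorem eq_gen_of_specializes {y z : Z} (h : y ⤳ gen hZ z) : y = gen hZ z :=
  (h.antisymm (gen_specializes_of_specializes hZ (h.trans (gen_specializes hZ z)))).eq

theorem gen_eq_of_specializes {y z : Z} (h : y ⤳ z) : gen hZ y = gen hZ z :=
  (eq_gen_of_specializes hZ
    ((gen_specializes hZ y).trans h |> gen_specializes_of_specializes hZ)).symm

theorem map_gen [IsIntegral X] (g : Z ⟶ X) [Flat g] (z : Z) :
    g (gen hZ z) = genericPoint X := by
  obtain ⟨y, hy, hgy⟩ := Flat.generalizingMap g (genericPoint_specializes (g (gen hZ z)))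
  rw [← eq_gen_of_specializes hZ hy, hgy]

/-- Over an integral base, sets saturated under maximal generalization are clopen. -/
theorem isClopen_preimage_gen [IsIntegral X] (g : Z ⟶ X) [IsFinite g] [Flat g] (A : Set Z) :
    IsClopen {z | gen hZ z ∈ A} := by
  have key : ∀ A : Set Z, IsClosed {z | gen hZ z ∈ A} := by
    intro A
    have hfin : (Set.range (gen hZ) ∩ A).Finite :=
      (g.finite_preimage_singleton (genericPoint X)).subset
        fun _ ⟨⟨z, hz⟩, _⟩ => hz ▸ map_gen hZ g z
    have : {z | gen hZ z ∈ A} = ⋃ a ∈ Set.range (gen hZ) ∩ A, closure {a} := by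
      ext z
      simp only [Set.mem_setOf_eq, Set.mem_iUnion, exists_prop]
      constructor
      · exact fun h => ⟨_, ⟨⟨z, rfl⟩, h⟩, (gen_specializes hZ z).mem_closure⟩
      · rintro ⟨a, ⟨⟨z', rfl⟩, ha⟩, hz⟩
        rw [← specializes_iff_mem_closure] at hz
        rw [← gen_eq_of_specializes hZ hz, gen_eq_of_specializes hZ (gen_specializes hZ z')]
        exact ha
    rw [this]
    exact hfin.isClosed_biUnion fun _ _ => isClosed_closure
  exact ⟨key A, isClosed_compl_iff.1 (key Aᶜ)⟩

/-- Clopens of the pullback along a preimmersion through the generic point extend. -/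
theorem exists_clopen_extension [IsIntegral X] {X' : Scheme.{u}} (f : X' ⟶ X) [IsPreimmersion f]
    (hη : genericPoint X ∈ Set.range f) (g : Z ⟶ X) [IsFinite g] [Flat g]
    (hZ : ∀ z : Z, IsDomain (Z.presheaf.stalk z)) (C : Set ↥(pullback g f)) (hC : IsClopen C) :
    ∃ D : Set Z, IsClopen D ∧ pullback.fst g f ⁻¹' D = C := by
  refine ⟨{z | gen hZ z ∈ pullback.fst g f '' C}, isClopen_preimage_gen hZ g _, ?_⟩
  ext p
  have hmem : gen hZ (pullback.fst g f p) ∈ Set.range (pullback.fst g f) := by
    rw [Scheme.Pullback.range_fst, Set.mem_preimage, map_gen hZ g]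
    exact hη
  obtain ⟨p', hp'⟩ := hmem
  have hs : p' ⤳ p := (pullback.fst g f).isEmbedding.isInducing.specializes_iff.1
    (hp'.symm ▸ gen_specializes hZ _)
  constructor
  · rintro ⟨c, hc, hce⟩
    have : c = p' := (pullback.fst g f).isEmbedding.injective (hce.trans hp'.symm)
    exact hs.mem_closed hC.1 (this ▸ hc)
  · intro hp
    exact ⟨p', hs.mem_open hC.2 hp, hp'⟩

/-- A nonempty clopen subset of an integral scheme contains the generic point. -/
theorem inter_range_nonempty [IsIntegral X] {X' : Scheme.{u}} (f : X' ⟶ X)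
    (hη : genericPoint X ∈ Set.range f) (S : Set X) (hS : IsClopen S) (hne : S.Nonempty) :
    (S ∩ Set.range f).Nonempty :=
  ⟨genericPoint X, ((genericPoint_spec X).mem_open_set_iff hS.2).2 (by simpa using hne), hη⟩

end Groth.Agent.Disc25
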