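import Mathlib.FieldTheory.IsSepClosed
import Mathlib.RingTheory.Polynomial.GaussLemma
import Mathlib.RingTheory.LocalRing.ResidueField.Ideal
import Mathlib.RingTheory.Henselian
import Mathlib.FieldTheory.IsAlgClosed.Basic

/-!
# Normal domains with separably closed fraction field
-/

universe u

open Polynomial IsLocalRing

namespace Groth.Agent.Disc25

theorem infinite_maximalIdeal {A : Type u} [CommRing A] [IsDomain A] [IsLocalRing A]
    (hm : maximalIdeal A ≠ ⊥) : (maximalIdeal A : Set A).Infinite := by
  obtain ⟨c, hc, hc0⟩ := Submodule.exists_mem_ne_zero_of_ne_bot hm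
  refine Set.infinite_of_injective_forall_mem (f := fun n : ℕ => c ^ (n + 1)) ?_
    fun n => Ideal.pow_mem_of_mem _ hc _ n.succ_pos
  have hu : ∀ {i j : ℕ}, i < j → c ^ (i + 1) ≠ c ^ (j + 1) := by
    intro i j hij h
    obtain ⟨d, rfl⟩ := Nat.exists_eq_add_of_lt hij
    rw [show i + d + 1 + 1 = (i + 1) + (d + 1) from by omega, pow_add c (i + 1) (d + 1)] at h
    have h1 : c ^ (d + 1) = 1 := (mul_right_eq_self₀.1 h.symm).resolve_right (pow_ne_zero _ hc0)
    exact ((mem_maximalIdeal _).1 hc) (IsUnit.of_pow_eq_one h1 d.succ_ne_zero)
  intro i j h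
  rcases lt_trichotomy i j with hlt | heq | hgt
  · exact absurd h (hu hlt)
  · exact heq
  · exact absurd h.symm (hu hgt)

/-- Residue fields of local normal domains with separably closed fraction field. -/
theorem exists_root_residue {A : Type u} [CommRing A] [IsDomain A] [IsLocalRing A]
    [IsIntegrallyClosed A] (K : Type u) [Field K] [Algebra A K] [IsFractionRing A K]
    [IsSepClosed K] (hm : maximalIdeal A ≠ ⊥)
    (g : (ResidueField A)[X]) (hg : g.Monic) (hd : g.natDegree ≠ 0) : ∃ x, g.IsRoot x := by
  obtain ⟨G, hGmap, hGd, hG⟩ := lifts_and_natDegree_eq_and_monic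
    (map_surjective (residue A) residue_surjective g) hg
  have hinj : Function.Injective (algebraMap A K) := IsFractionRing.injective A K
  -- first perturb so that the derivative is nonzero
  obtain ⟨G₁, hG₁map, hG₁, hG₁d, hG₁'⟩ : ∃ G₁ : A[X], G₁.map (residue A) = g ∧ G₁.Monic ∧
      G₁.natDegree = g.natDegree ∧ G₁.derivative ≠ 0 := by
    by_cases h : G.derivative = 0
    · obtain ⟨c, hc, hc0⟩ := Submodule.exists_mem_ne_zero_of_ne_bot hm
      have h2 : 2 ≤ G.natDegree := by
        by_contra hlt
        have h1 : G.natDegree = 1 := by omega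
        have := congrArg (coeff · 0) h
        simp only [coeff_derivative, coeff_zero, Nat.cast_zero, zero_add, mul_one] at this
        rw [← h1] at this
        exact one_ne_zero (hG.coeff_natDegree.symm.trans this)
      have hdlt : (C c * X).degree < G.degree := by
        refine (degree_C_mul_X_le c).trans_lt ?_
        rw [degree_eq_natDegree hG.ne_zero]
        exact_mod_cast h2
      refine ⟨G + C c * X, ?_, hG.add_of_left hdlt, ?_, ?_⟩
      · rw [Polynomial.map_add, Polynomial.map_mul, map_C, hGmap,
          (residue_eq_zero_iff c).2 hc, map_zero, zero_mul, add_zero]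
      · rw [natDegree_add_eq_left_of_degree_lt hdlt, hGd]
      · simpa [h] using hc0
    · exact ⟨G, hGmap, hG, hGd, h⟩
  -- then avoid the finitely many critical values
  classical
  let L := AlgebraicClosure K
  let F := G₁.map (algebraMap A L)
  have hinjL : Function.Injective (algebraMap A L) := by
    rw [IsScalarTower.algebraMap_eq A K L]
    exact (algebraMap K L).injective.comp hinj
  have hF' : F.derivative ≠ 0 := by
    rw [show F.derivative = G₁.derivative.map (algebraMap A L) from derivative_map ..]
    exact (Polynomial.map_ne_zero_iff hinjL).2 hG₁'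
  let bad : Set L := (fun x => -F.eval x) '' {x | F.derivative.IsRoot x}
  have hbad : bad.Finite := (finite_setOf_isRoot hF').image _
  obtain ⟨b, hb, hb'⟩ : ∃ b ∈ (maximalIdeal A : Set A), algebraMap A L b ∉ bad := by
    by_contra hh
    push_neg at hh
    exact infinite_maximalIdeal hm ((hbad.preimage hinjL.injOn).subset hh)
  let H := G₁ + C b
  have hHmap : H.map (residue A) = g := by
    rw [Polynomial.map_add, map_C, hG₁map, (residue_eq_zero_iff b).2 hb, map_zero, add_zero]
  have hdeg : (C b).degree < G₁.degree := by
    refine degree_C_le.trans_lt ?_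
    rw [degree_eq_natDegree hG₁.ne_zero, hG₁d]
    exact_mod_cast Nat.pos_of_ne_zero hd
  have hH : H.Monic := hG₁.add_of_left hdeg
  have hsep : (H.map (algebraMap A K)).Separable := by
    refine separable_def _ |>.2 ((isCoprime_iff_aeval_ne_zero_of_isAlgClosed K L _ _).2 fun x => ?_)
    by_contra hh
    push_neg at hh
    obtain ⟨h1, h2⟩ := hh
    rw [aeval_map_algebraMap] at h1
    rw [derivative_map, aeval_map_algebraMap] at h2
    refine hb' ⟨x, ?_, ?_⟩
    · simpa [F, H, IsRoot, derivative_map, eval_map_algebraMap, aeval_def, eval_map] using h2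
    · simp only [H, map_add, aeval_C] at h1
      show -F.eval x = _
      rw [show F.eval x = aeval x G₁ from eval_map_algebraMap ..]
      linear_combination -h1
  have hHd : (H.map (algebraMap A K)).degree ≠ 0 := by
    rw [degree_map_eq_of_injective hinj, degree_eq_natDegree hH.ne_zero,
      natDegree_add_eq_left_of_degree_lt hdeg, hG₁d]
    exact_mod_cast hd
  obtain ⟨x, hx⟩ := IsSepClosed.exists_root _ hHd hsep
  have hxi : IsIntegral A x := ⟨H, hH, by rwa [IsRoot, eval_map] at hx⟩
  obtain ⟨y, rfl⟩ := IsIntegrallyClosed.isIntegral_iff.1 hxi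
  refine ⟨residue A y, ?_⟩
  rw [IsRoot, eval_map, eval₂_at_apply] at hx
  rw [← hHmap, IsRoot, eval_map, eval₂_at_apply, hinj (hx.trans (map_zero _).symm), map_zero]

theorem isAlgClosed_residueField {A : Type u} [CommRing A] [IsDomain A] [IsLocalRing A]
    [IsIntegrallyClosed A] (K : Type u) [Field K] [Algebra A K] [IsFractionRing A K]
    [IsSepClosed K] (hm : maximalIdeal A ≠ ⊥) : IsAlgClosed (ResidueField A) :=
  IsAlgClosed.of_exists_root _ fun g hg hi => exists_root_residue K hm g hg hi.natDegree_pos.ne'

/-- A local normal domain with separably closed fraction field is henselian. -/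
theorem henselianLocalRing {A : Type u} [CommRing A] [IsDomain A] [IsLocalRing A]
    [IsIntegrallyClosed A] (K : Type u) [Field K] [Algebra A K] [IsFractionRing A K]
    [IsSepClosed K] : HenselianLocalRing A where
  is_henselian := by
    suffices h : ∀ n (f : A[X]), f.natDegree = n → f.Monic → ∀ a₀ : A,
        f.eval a₀ ∈ maximalIdeal A → IsUnit (f.derivative.eval a₀) →
        ∃ a : A, f.IsRoot a ∧ a - a₀ ∈ maximalIdeal A from
      fun f hf a₀ h₁ h₂ => h _ f rfl hf a₀ h₁ h₂
    intro n
    induction n using Nat.strong_induction_on with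
    | h n ih =>
      intro f hn hf a₀ h₁ h₂
      by_cases hirr : Irreducible f
      · have hK := (hf.irreducible_iff_irreducible_map_fraction_map (K := K)).1 hirr
        have hsep : (f.map (algebraMap A K)).Separable := by
          rw [separable_iff_derivative_ne_zero hK, derivative_map,
            Polynomial.map_ne_zero_iff (IsFractionRing.injective A K)]
          intro h0
          rw [h0, eval_zero] at h₂
          exact not_isUnit_zero h₂
        have h1 := IsSepClosed.degree_eq_one_of_irreducible K hK hsep
        rw [degree_map_eq_of_injective (IsFractionRing.injective A K)] at h1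
        have hfX := hf.eq_X_add_C (natDegree_eq_of_degree_eq_some h1)
        refine ⟨-f.coeff 0, by rw [hfX]; simp, ?_⟩
        rw [hfX] at h₁
        simp only [eval_add, eval_X, eval_C] at h₁
        rw [show -f.coeff 0 - a₀ = -(a₀ + f.coeff 0) by ring]
        exact neg_mem h₁
      · have hf1 : f ≠ 1 := by
          rintro rfl
          rw [eval_one] at h₁
          exact (mem_maximalIdeal _).1 h₁ isUnit_one
        rw [hf.irreducible_iff_natDegree' |>.not] at hirr
        push_neg at hirr
        obtain ⟨u, v, hu, hv, huv, hvd⟩ := hirr hf1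
        rw [Finset.mem_Ioc] at hvd
        have hsum : u.natDegree + v.natDegree = n := by rw [← hn, ← huv, hu.natDegree_mul hv]
        have hu0 : u.natDegree < n := by omega
        have hv0 : v.natDegree < n := by omega
        subst huv
        rw [eval_mul] at h₁
        rw [derivative_mul, eval_add, eval_mul, eval_mul] at h₂
        rcases (Ideal.IsMaximal.isPrime inferInstance).mem_or_mem h₁ with hua | hva
        · have hud : IsUnit (u.derivative.eval a₀) := by
            by_contra hh
            exact (mem_maximalIdeal _).1 (add_mem (Ideal.mul_mem_right _ _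
              ((mem_maximalIdeal _).2 hh)) (Ideal.mul_mem_right _ _ hua)) h₂
          obtain ⟨a, ha, hd⟩ := ih _ hu0 u rfl hu a₀ hua hud
          exact ⟨a, root_mul_right_of_isRoot _ ha, hd⟩
        · have hvdu : IsUnit (v.derivative.eval a₀) := by
            by_contra hh
            exact (mem_maximalIdeal _).1 (add_mem (Ideal.mul_mem_left _ _ hva)
              (Ideal.mul_mem_left _ _ ((mem_maximalIdeal _).2 hh))) h₂
          obtain ⟨a, ha, hd⟩ := ih _ hv0 v rfl hv a₀ hva hvdu
          exact ⟨a, root_mul_left_of_isRoot _ ha, hd⟩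

end Groth.Agent.Disc25
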