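import Mathlib.Algebra.Module.CharacterModule
import Mathlib.RingTheory.Flat.Basic
import Mathlib.RingTheory.Finiteness.Cardinality
import Mathlib.RingTheory.FinitePresentation
import Groth.Prelude.Def_Pi1

/-!
# Descent along universally injective ring maps
-/

universe u

open TensorProduct

namespace Groth.Agent.Disc25.UI

variable {R S : Type u} [CommRing R] [CommRing S] [Algebra R S]

theorem one_tmul_injective (h : Pi1.UnivInjective R S) (P : Type u) [AddCommGroup P] [Module R P]
    {x : P} (hx : (1 : S) ⊗ₜ[R] x = 0) : x = 0 := by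
  have h1 : (Algebra.linearMap R S).lTensor P (x ⊗ₜ 1) = 0 := by
    rw [LinearMap.lTensor_tmul, Algebra.linearMap_apply, map_one]
    apply (TensorProduct.comm R P S).injective
    rw [TensorProduct.comm_tmul, map_zero, hx]
  have h2 : x ⊗ₜ[R] (1 : R) = 0 := h P (h1.trans (map_zero _).symm)
  simpa using congrArg (TensorProduct.rid R P) h2

theorem surjective_of_lTensor (h : Pi1.UnivInjective R S) {M N : Type u} [AddCommGroup M]
    [Module R M] [AddCommGroup N] [Module R N] (g : M →ₗ[R] N)
    (hg : Function.Surjective (g.lTensor S)) : Function.Surjective g := by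
  intro n
  have h0 : (LinearMap.range g).mkQ n = 0 := by
    apply one_tmul_injective h
    obtain ⟨w, hw⟩ := hg (1 ⊗ₜ n)
    have hc : (LinearMap.range g).mkQ ∘ₗ g = 0 := by
      ext m
      exact (Submodule.Quotient.mk_eq_zero _).2 ⟨m, rfl⟩
    rw [← LinearMap.lTensor_tmul, ← hw, ← LinearMap.lTensor_comp_apply, hc]
    simp
  exact (Submodule.Quotient.mk_eq_zero _).1 h0

theorem injective_of_lTensor (h : Pi1.UnivInjective R S) {M N : Type u} [AddCommGroup M]
    [Module R M] [AddCommGroup N] [Module R N] (g : M →ₗ[R] N)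
    (hg : Function.Injective (g.lTensor S)) : Function.Injective g := by
  rw [injective_iff_map_eq_zero]
  intro m hm
  refine one_tmul_injective h M (hg ?_)
  rw [LinearMap.lTensor_tmul, hm, tmul_zero, map_zero]

theorem finite_descends (h : Pi1.UnivInjective R S) (M : Type u) [AddCommGroup M] [Module R M]
    [Module.Finite S (S ⊗[R] M)] : Module.Finite R M := by
  classical
  obtain ⟨s, hs⟩ := Module.Finite.fg_top (R := S) (M := S ⊗[R] M)
  obtain ⟨M', hM', hsub⟩ := TensorProduct.exists_finite_submodule_right_of_setFinite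
    (s : Set (S ⊗[R] M)) s.finite_toSet
  have hsurj : Function.Surjective (M'.subtype.lTensor S) := by
    have htop : LinearMap.range (M'.subtype.baseChange S) = ⊤ := by
      rw [← top_le_iff, ← hs, Submodule.span_le]
      intro x hx
      obtain ⟨y, hy⟩ := hsub hx
      exact ⟨y, hy⟩
    intro x
    obtain ⟨y, hy⟩ := LinearMap.range_eq_top.1 htop x
    exact ⟨y, hy⟩
  exact Module.Finite.of_surjective M'.subtype (surjective_of_lTensor h _ hsurj)

theorem fg_ker_descends (h : Pi1.UnivInjective R S) {F M : Type u} [AddCommGroup F] [Module R F]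
    [AddCommGroup M] [Module R M] (p : F →ₗ[R] M) (hp : Function.Surjective p)
    (hfg : (LinearMap.ker (p.baseChange S)).FG) : (LinearMap.ker p).FG := by
  classical
  obtain ⟨s, hs⟩ := hfg
  have hex : Function.Exact ((LinearMap.ker p).subtype.lTensor S) (p.lTensor S) :=
    lTensor_exact S (LinearMap.exact_subtype_ker_map p) hp
  have hmem : ∀ x ∈ (s : Set (S ⊗[R] F)),
      ∃ y, (LinearMap.ker p).subtype.lTensor S y = x := fun x hx => by
    have : x ∈ LinearMap.ker (p.baseChange S) := hs ▸ Submodule.subset_span hx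
    exact (hex x).1 (LinearMap.mem_ker.1 this)
  choose g hg using hmem
  obtain ⟨K', hK', hsub⟩ := TensorProduct.exists_finite_submodule_right_of_setFinite
    (Set.range fun x : (s : Set (S ⊗[R] F)) => g x.1 x.2) (Set.finite_range _)
  let K₀ : Submodule R F := K'.map (LinearMap.ker p).subtype
  have hK₀ : K₀ ≤ LinearMap.ker p := by
    rintro _ ⟨y, -, rfl⟩
    exact y.2
  have hfg0 : K₀.FG := (Module.Finite.iff_fg.1 hK').map _
  suffices LinearMap.ker p = K₀ by rwa [this]
  refine le_antisymm (fun x hx => ?_) hK₀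
  rw [← Submodule.Quotient.mk_eq_zero]
  apply one_tmul_injective h
  have hx' : (1 : S) ⊗ₜ[R] x ∈ LinearMap.ker (p.baseChange S) := by
    rw [LinearMap.mem_ker, LinearMap.baseChange_tmul, LinearMap.mem_ker.1 hx, tmul_zero]
  have hker : LinearMap.ker (p.baseChange S) ≤ LinearMap.ker (K₀.mkQ.baseChange S) := by
    rw [← hs, Submodule.span_le]
    intro z hz
    obtain ⟨y, hy⟩ := hsub ⟨⟨z, hz⟩, rfl⟩
    simp only at hy
    show K₀.mkQ.lTensor S z = 0
    rw [← hg z hz, ← hy, ← LinearMap.lTensor_comp_apply, ← LinearMap.lTensor_comp_apply]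
    have : (K₀.mkQ ∘ₗ (LinearMap.ker p).subtype) ∘ₗ K'.subtype = 0 := by
      ext w
      exact (Submodule.Quotient.mk_eq_zero _).2 ⟨w.1, w.2, rfl⟩
    rw [this]
    simp
  simpa using hker hx'

/-- A natural extension of characters along `P → S ⊗ P`. -/
theorem exists_extend (h : Pi1.UnivInjective R S) :
    ∃ ρ : ∀ (P : Type u) [AddCommGroup P] [Module R P], CharacterModule P → CharacterModule (S ⊗[R] P),
      (∀ (P : Type u) [AddCommGroup P] [Module R P] (χ : CharacterModule P) (p : P),
        ρ P χ (1 ⊗ₜ p) = χ p) ∧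
      (∀ (P Q : Type u) [AddCommGroup P] [Module R P] [AddCommGroup Q] [Module R Q] (f : P →ₗ[R] Q)
        (χ : CharacterModule Q) (x : S ⊗[R] P),
        ρ Q χ (f.lTensor S x) = ρ P (CharacterModule.dual f χ) x) := by
  let C := CharacterModule R
  let ev : C ⊗[R] R →ₗ[R] C := (TensorProduct.rid R C).toLinearMap
  let χ₀ : CharacterModule (C ⊗[R] R) :=
    AddMonoidHom.comp ({ toFun := fun c : C => c 1, map_zero' := rfl, map_add' := fun _ _ => rfl })
      ev.toAddMonoidHom
  obtain ⟨ε, hε⟩ := CharacterModule.dual_surjective_of_injective _ (h C) χ₀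
  let g (P : Type u) [AddCommGroup P] [Module R P] (χ : CharacterModule P) : P →ₗ[R] C :=
    { toFun := fun p => CharacterModule.dual (LinearMap.toSpanSingleton R P p) χ
      map_add' := fun p q => by
        apply DFunLike.ext
        intro r
        show χ (r • (p + q)) = χ (r • p) + χ (r • q)
        rw [smul_add, map_add]
      map_smul' := fun a p => by
        apply DFunLike.ext
        intro r
        show χ (r • a • p) = χ ((a * r) • p)
        rw [smul_smul, mul_comm] }
  refine ⟨fun P _ _ χ => AddMonoidHom.comp ε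
    ((TensorProduct.comm R S C).toLinearMap ∘ₗ (g P χ).lTensor S).toAddMonoidHom,
    fun P _ _ χ p => ?_, fun P Q _ _ _ _ f χ x => ?_⟩
  · show ε (TensorProduct.comm R S C ((g P χ).lTensor S (1 ⊗ₜ p))) = χ p
    rw [LinearMap.lTensor_tmul, TensorProduct.comm_tmul]
    have h1 : ε (g P χ p ⊗ₜ[R] algebraMap R S 1) = χ₀ (g P χ p ⊗ₜ[R] (1 : R)) :=
      DFunLike.congr_fun hε (g P χ p ⊗ₜ[R] (1 : R))
    rw [map_one] at h1
    rw [h1]
    show (TensorProduct.rid R C (g P χ p ⊗ₜ 1) : C) 1 = χ p
    rw [TensorProduct.rid_tmul, one_smul]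
    show χ ((1 : R) • p) = χ p
    rw [one_smul]
  · show ε _ = ε _
    congr 1
    show TensorProduct.comm R S C ((g Q χ).lTensor S (f.lTensor S x)) =
      TensorProduct.comm R S C ((g P (CharacterModule.dual f χ)).lTensor S x)
    rw [← LinearMap.lTensor_comp_apply]
    congr 3
    apply LinearMap.ext
    intro p
    apply DFunLike.ext
    intro r
    show χ (r • f p) = χ (f (r • p))
    rw [LinearMap.map_smul f]

theorem flat_descends (h : Pi1.UnivInjective R S) (M : Type u) [AddCommGroup M] [Module R M]
    [Module.Flat S (S ⊗[R] M)] : Module.Flat R M := by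
  obtain ⟨ρ, hρ1, hρnat⟩ := exists_extend h
  rw [Module.Flat.iff_rTensor_preserves_injective_linearMap]
  intro N N' _ _ _ _ f hf
  rw [injective_iff_map_eq_zero]
  intro z hz
  refine CharacterModule.eq_zero_of_character_apply fun χ => ?_
  rw [← hρ1 _ χ z]
  let e := AlgebraTensorModule.distribBaseChange R S N M
  let e' := AlgebraTensorModule.distribBaseChange R S N' M
  let fS := f.baseChange S
  have hnat : ∀ x : S ⊗[R] (N ⊗[R] M),
      fS.rTensor (S ⊗[R] M) (e x) = e' ((f.rTensor M).lTensor S x) := by
    intro x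
    induction x with
    | zero => simp
    | add a b ha hb => simp only [map_add, ha, hb]
    | tmul t y =>
      induction y with
      | zero => simp
      | add a b ha hb => simp only [tmul_add, map_add, ha, hb]
      | tmul n m => simp [e, e', fS]
  have hker : fS.rTensor (S ⊗[R] M) (e ((1 : S) ⊗ₜ z)) = 0 := by
    rw [hnat, LinearMap.lTensor_tmul, hz, tmul_zero, map_zero]
  have hex : Function.Exact (LinearMap.ker fS).subtype fS := LinearMap.exact_subtype_ker_map fS
  obtain ⟨w, hw⟩ := ((Module.Flat.rTensor_exact (R := S) (M := S ⊗[R] M) (N := LinearMap.ker fS) hex) _).1 hker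
  have hz1 : (1 : S) ⊗ₜ[R] z = e.symm (e ((1 : S) ⊗ₜ[R] z)) := (e.symm_apply_apply _).symm
  rw [hz1, ← hw]
  clear hw hz1 hker
  induction w with
  | zero => simp
  | add a b ha hb => simp only [map_add, ha, hb, add_zero]
  | tmul k y =>
    induction y with
    | zero => simp
    | add a b ha hb => simp only [tmul_add, map_add, ha, hb, add_zero]
    | tmul t m =>
      have ht : t ⊗ₜ[R] m = t • ((1 : S) ⊗ₜ[R] m) := by
        rw [smul_tmul', smul_eq_mul, mul_one]
      rw [ht, ← TensorProduct.smul_tmul]
      generalize t • k = k'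
      obtain ⟨k', hk'⟩ := k'
      let gm : N →ₗ[R] N ⊗[R] M := (TensorProduct.mk R N M).flip m
      have hsymm : ∀ x : S ⊗[R] N, e.symm (x ⊗ₜ ((1 : S) ⊗ₜ[R] m)) = gm.lTensor S x := by
        intro x
        rw [LinearEquiv.symm_apply_eq]
        induction x with
        | zero => simp
        | add a b ha hb => simp only [add_tmul, map_add, ← ha, ← hb]
        | tmul s n => simp [e, gm]
      rw [LinearMap.rTensor_tmul, Submodule.subtype_apply, hsymm, hρnat]
      obtain ⟨χ', hχ'⟩ := CharacterModule.dual_surjective_of_injective f hf (CharacterModule.dual gm χ)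
      rw [← hχ', ← hρnat]
      have : f.lTensor S k' = 0 := by
        rw [← LinearMap.baseChange_eq_ltensor (A := S)]
        exact hk'
      rw [this, map_zero]

end Groth.Agent.Disc25.UI
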