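import Mathlib.RingTheory.Smooth.Fiber
import Mathlib.RingTheory.Kaehler.TensorProduct
import Mathlib.RingTheory.TensorProduct.Quotient
import Mathlib.RingTheory.RingHom.FinitePresentation
import Groth.Agent.Lib.Disc25.UnivInj

/-!
# Descent of algebra properties along universally injective ring maps
-/

universe u

open TensorProduct

namespace Groth.Agent.Disc25.UI

variable {R S : Type u} [CommRing R] [CommRing S] [Algebra R S]

theorem finiteType_descends (h : Pi1.UnivInjective R S) (A : Type u) [CommRing A] [Algebra R A]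
    [Algebra.FiniteType S (S ⊗[R] A)] : Algebra.FiniteType R A := by
  classical
  obtain ⟨s, hs⟩ := Algebra.FiniteType.out (R := S) (A := S ⊗[R] A)
  obtain ⟨M', hM', hsub⟩ := TensorProduct.exists_finite_submodule_right_of_setFinite
    (s : Set (S ⊗[R] A)) s.finite_toSet
  obtain ⟨t, ht⟩ := Module.Finite.iff_fg.1 hM'
  let A₀ := Algebra.adjoin R (t : Set A)
  have hle : M' ≤ Subalgebra.toSubmodule A₀ := by
    rw [← ht, Submodule.span_le]
    exact Algebra.subset_adjoin
  let ψ := Algebra.TensorProduct.map (AlgHom.id S S) A₀.val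
  have hψ : (s : Set (S ⊗[R] A)) ⊆ ψ.range := by
    intro x hx
    obtain ⟨y, rfl⟩ := hsub hx
    clear hx
    induction y with
    | zero => exact ⟨0, by simp⟩
    | add a b ha hb => rw [map_add]; exact add_mem ha hb
    | tmul a m => exact ⟨a ⊗ₜ ⟨m, hle m.2⟩, by simp [ψ]⟩
  have hsurj : Function.Surjective (A₀.val.toLinearMap.lTensor S) := by
    intro x
    obtain ⟨y, rfl⟩ : x ∈ ψ.range := by
      have : Algebra.adjoin S (s : Set (S ⊗[R] A)) ≤ ψ.range := Algebra.adjoin_le hψ
      exact this (by rw [hs]; exact Algebra.mem_top)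
    refine ⟨y, ?_⟩
    induction y with
    | zero => simp
    | add a b ha hb => simp only [map_add, ha, hb]
    | tmul a m => rfl
  have := surjective_of_lTensor h _ hsurj
  refine ⟨⟨t, ?_⟩⟩
  rw [eq_top_iff]
  intro x _
  obtain ⟨y, rfl⟩ := this x
  exact y.2

theorem finitePresentation_descends (h : Pi1.UnivInjective R S) (A : Type u) [CommRing A]
    [Algebra R A] [Algebra.FinitePresentation S (S ⊗[R] A)] : Algebra.FinitePresentation R A := by
  classical
  have := finiteType_descends h A
  obtain ⟨n, π, hπ⟩ := Algebra.FiniteType.iff_quotient_mvPolynomial''.1 this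
  let P := MvPolynomial (Fin n) R
  let πS := Algebra.TensorProduct.map (AlgHom.id S S) π
  have hπS : ∀ y, πS y = π.toLinearMap.lTensor S y := fun y => by
    induction y with
    | zero => simp
    | add a b ha hb => simp only [map_add, ha, hb]
    | tmul a m => rfl
  have hsurjS : Function.Surjective πS := fun x => by
    obtain ⟨y, hy⟩ := π.toLinearMap.lTensor_surjective S hπ x
    exact ⟨y, (hπS y).trans hy⟩
  obtain ⟨s, hs⟩ := Algebra.FinitePresentation.ker_fG_of_surjective πS hsurjS
  have hmem : ∀ x : (s : Set (S ⊗[R] P)),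
      ∃ y, (LinearMap.ker π.toLinearMap).subtype.lTensor S y = x.1 := fun x => by
    have hx : x.1 ∈ RingHom.ker πS.toRingHom := hs ▸ Ideal.subset_span x.2
    exact (lTensor_exact S (LinearMap.exact_subtype_ker_map π.toLinearMap) hπ _).1
      ((hπS _).symm.trans hx)
  choose g hg using hmem
  obtain ⟨K', hK', hsub⟩ := TensorProduct.exists_finite_submodule_right_of_setFinite
    (Set.range g) (Set.finite_range _)
  obtain ⟨t, ht⟩ := (Module.Finite.iff_fg.1 hK').map (LinearMap.ker π.toLinearMap).subtype
  suffices RingHom.ker π.toRingHom = Ideal.span (t : Set P) from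
    Algebra.FinitePresentation.of_surjective hπ ⟨t, this.symm⟩
  let I₀ : Ideal P := Ideal.span (t : Set P)
  have hKI : ∀ k : K', (k.1.1 : P) ∈ I₀ := fun k => by
    have : (k.1.1 : P) ∈ Submodule.span R (t : Set P) := ht ▸ ⟨k.1, k.2, rfl⟩
    exact ((Submodule.span_le (s := (t : Set P)) (p := I₀.restrictScalars R)).2
      Ideal.subset_span) this
  refine le_antisymm (fun x hx => ?_) (Ideal.span_le.2 fun x hx => ?_)
  · let q := Ideal.Quotient.mkₐ R I₀
    let qS := Algebra.TensorProduct.map (AlgHom.id S S) q
    have hle : RingHom.ker πS.toRingHom ≤ RingHom.ker qS.toRingHom := by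
      rw [← hs, Ideal.span_le]
      intro z hz
      obtain ⟨y, hy⟩ := hsub ⟨⟨z, hz⟩, rfl⟩
      have key : ∀ y, qS ((LinearMap.ker π.toLinearMap).subtype.lTensor S
          (K'.subtype.lTensor S y)) = 0 := fun y => by
        induction y with
        | zero => simp
        | add a b ha hb => simp only [map_add, ha, hb, add_zero]
        | tmul a k =>
          show a ⊗ₜ[R] q k.1.1 = 0
          rw [show q k.1.1 = 0 from Ideal.Quotient.eq_zero_iff_mem.2 (hKI k), tmul_zero]
      show qS z = 0
      have hgz : (LinearMap.ker π.toLinearMap).subtype.lTensor S (g ⟨z, hz⟩) = z := hg ⟨z, hz⟩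
      rw [← hgz, ← hy]
      exact key y
    have hx1 : (1 : S) ⊗ₜ[R] x ∈ RingHom.ker πS.toRingHom := by
      show (1 : S) ⊗ₜ[R] π x = 0
      rw [show π x = 0 from hx, tmul_zero]
    exact Ideal.Quotient.eq_zero_iff_mem.1 (one_tmul_injective h _ (hle hx1))
  · have : x ∈ (K'.map (LinearMap.ker π.toLinearMap).subtype) := ht ▸ Submodule.subset_span hx
    obtain ⟨k, -, rfl⟩ := this
    exact k.2

theorem formallyUnramified_descends (h : Pi1.UnivInjective R S) (A : Type u) [CommRing A]
    [Algebra R A] [Algebra.FormallyUnramified S (S ⊗[R] A)] : Algebra.FormallyUnramified R A := by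
  letI : Algebra A (S ⊗[R] A) := Algebra.TensorProduct.rightAlgebra
  haveI : Algebra.IsPushout R S A (S ⊗[R] A) := inferInstance
  haveI := (Algebra.formallyUnramified_iff S (S ⊗[R] A)).1 inferInstance
  haveI : Subsingleton (S ⊗[R] (Ω[A⁄R])) :=
    (KaehlerDifferential.tensorKaehlerEquivBase R S A (S ⊗[R] A)).toEquiv.subsingleton
  refine (Algebra.formallyUnramified_iff R A).2 ⟨fun a b => ?_⟩
  rw [← sub_eq_zero]
  exact one_tmul_injective h _ (Subsingleton.elim _ _)

theorem etale_descends (h : Pi1.UnivInjective R S) (A : Type u) [CommRing A] [Algebra R A]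
    [Algebra.Etale S (S ⊗[R] A)] : Algebra.Etale R A := by
  have := finitePresentation_descends h A
  have := flat_descends h A
  have := formallyUnramified_descends h A
  exact Algebra.Etale.of_formallyUnramified_of_flat

end Groth.Agent.Disc25.UI
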